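/-
Coset enumeration certificate: the assembled result.
-/
import Cfsg.Agent.Lib.Spor.TC.Steps
import Cfsg.Agent.Lib.Spor.SUFiveRad.Rels
import Cfsg.Agent.Lib.Spor.SUFiveRad.A.Part0
import Cfsg.Agent.Lib.Spor.SUFiveRad.A.Part1
import Cfsg.Agent.Lib.Spor.SUFiveRad.A.Part2

namespace CfsgLib.Spor.SUFiveRad.A

open CfsgLib.Spor.TC

theorem steps_ok : cert.StepsOK 0 12171 :=
  ((((steps0.append _ steps2847).append _ steps5672).append _ steps8492).append _ steps11235)

theorem rows_ok : cert.RowsOK 12171 3960 0 3960 :=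
  ((rows0.append _ rows1740).append _ rows3480)

theorem row_zero : cert.rowNode 0 = 0 := by decide +kernel

/-- The certificate, for the relators as powers of words. -/
noncomputable def cosetCert : CosetCert 5 relsA [0, 1, 2, 3] 3960 :=
  ⟨cert, 12171, steps_ok, rows_ok, row_zero, by decide, rfl, by decide +kernel, by decide +kernel⟩

end CfsgLib.Spor.SUFiveRad.A
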